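/-
Retractions of square zero extensions which exist locally and have projective defect exist globally.
-/
import Groth.Agent.S0585
import Mathlib

set_option autoImplicit false
set_option backward.isDefEq.respectTransparency false
set_option linter.style.haveILetI false

universe u

open TensorProduct

noncomputable section

namespace Groth.Agent.FSmoothLocal

theorem projective_of_cover {R : Type u} [CommRing R] {ι : Type u} [Fintype ι] [DecidableEq ι] (S : ι → Type u)
    [∀ k, CommRing (S k)] [∀ k, Algebra R (S k)] [∀ k, Module.Flat R (S k)]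
    (hs : ∀ p : PrimeSpectrum R, ∃ k, p ∈ Set.range (PrimeSpectrum.comap (algebraMap R (S k))))
    (M : Type u) [AddCommGroup M] [Module R M] (h : ∀ k, Module.Projective (S k) (S k ⊗[R] M)) :
    Module.Projective R M := by
  classical
  haveI : Module.Flat R (Π k, S k) := Module.Flat.of_linearEquiv (DirectSum.linearEquivFunOnFintype R ι S).symm
  haveI : Module.FaithfullyFlat R (Π k, S k) := Module.FaithfullyFlat.of_comap_surjective fun p => by
    obtain ⟨k, q, rfl⟩ := hs p
    exact ⟨PrimeSpectrum.comap (Pi.evalRingHom S k) q, rfl⟩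
  haveI : Module.Projective (Π k, S k) ((Π k, S k) ⊗[R] M) := by
    have hex : ∀ k, ∃ t : S k ⊗[R] M →ₗ[S k] ((S k ⊗[R] M) →₀ S k),
        ∀ x, Finsupp.linearCombination (S k) id (t x) = x := fun k => by
      obtain ⟨t, ht⟩ := (h k).out
      exact ⟨t, fun x => ht x⟩
    choose t ht using hex
    let pr : ∀ k, (Π k, S k) ⊗[R] M →ₗ[R] S k ⊗[R] M := fun k => (LinearMap.proj (R := R) k).rTensor M
    let inj : ∀ k, S k ⊗[R] M →ₗ[R] (Π k, S k) ⊗[R] M := fun k => (LinearMap.single R S k).rTensor M
    have hsum : ∀ x, ∑ k, inj k (pr k x) = x := by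
      intro x
      induction x with
      | zero => simp
      | tmul f m =>
        simp only [pr, inj, LinearMap.rTensor_tmul, LinearMap.proj_apply, LinearMap.coe_single, ← sum_tmul]
        rw [Finset.univ_sum_single]
      | add a b ha hb => simp only [map_add, Finset.sum_add_distrib, ha, hb]
    have hpr : ∀ k (a : Π k, S k) x, pr k (a • x) = a k • pr k x := by
      intro k a x
      induction x with
      | zero => simp
      | tmul f m => simp [pr, TensorProduct.smul_tmul']
      | add a b ha hb => simp only [smul_add, map_add, ha, hb]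
    have hinj : ∀ k (a : Π k, S k) x, inj k (a k • x) = a • inj k x := by
      intro k a x
      induction x with
      | zero => simp
      | tmul f m =>
        simp only [inj, TensorProduct.smul_tmul', LinearMap.rTensor_tmul, LinearMap.coe_single, smul_eq_mul]
        rw [show a * Pi.single k f = Pi.single k (a k * f) from
          funext fun j => by rcases eq_or_ne j k with rfl | hj <;> simp [*]]
      | add a b ha hb => simp only [smul_add, map_add, ha, hb]
    let up : ∀ k, ((S k ⊗[R] M) →₀ S k) →+ (((Π k, S k) ⊗[R] M) →₀ (Π k, S k)) := fun k =>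
      (Finsupp.mapDomain.addMonoidHom (inj k)).comp (Finsupp.mapRange.addMonoidHom (AddMonoidHom.single S k))
    have hup : ∀ k (a : Π k, S k) y, up k (a k • y) = a • up k y := by
      intro k a y
      induction y using Finsupp.induction_linear with
      | zero => simp
      | add a b ha hb => simp only [smul_add, map_add, ha, hb]
      | single x c =>
        simp only [up, AddMonoidHom.comp_apply, Finsupp.smul_single, Finsupp.mapRange.addMonoidHom_apply,
          Finsupp.mapRange_single, Finsupp.mapDomain.addMonoidHom_apply, Finsupp.mapDomain_single]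
        congr 1
        exact funext fun j => by rcases eq_or_ne j k with rfl | hj <;> simp [*]
    let sect : (Π k, S k) ⊗[R] M →ₗ[Π k, S k] (((Π k, S k) ⊗[R] M) →₀ (Π k, S k)) :=
      { toFun := fun x => ∑ k, up k (t k (pr k x))
        map_add' := fun x y => by simp only [map_add, Finset.sum_add_distrib]
        map_smul' := fun a x => by
          simp only [hpr, map_smul, hup, Finset.smul_sum, RingHom.id_apply] }
    refine ⟨⟨sect, fun x => ?_⟩⟩
    have hlc : ∀ k y, Finsupp.linearCombination (Π k, S k) id (up k y) =
        inj k (Finsupp.linearCombination (S k) id y) := by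
      intro k y
      induction y using Finsupp.induction_linear with
      | zero => simp
      | add a b ha hb => simp only [map_add, ha, hb]
      | single x c =>
        simp only [up, AddMonoidHom.comp_apply, Finsupp.mapRange.addMonoidHom_apply, Finsupp.mapRange_single,
          Finsupp.mapDomain.addMonoidHom_apply, Finsupp.mapDomain_single, Finsupp.linearCombination_single, id]
        rw [← hinj, show (AddMonoidHom.single S k c) k = c from Pi.single_eq_same k c]
    show Finsupp.linearCombination (Π k, S k) id (∑ k, up k (t k (pr k x))) = x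
    simp only [map_sum, hlc, ht, hsum]
  exact Groth.Agent.S0585.result R (Π k, S k) M

variable {A : Type u} [CommRing A] {B' : Type u} [CommRing B'] [Algebra A B'] (I : Ideal A)
  (π : B' →ₐ[A] A ⧸ I)

/-- lifting along square zero extensions over `D(g)` -/
def LocLift (g : A) : Prop :=
  ∀ (E E'' : Type u) [CommRing E] [CommRing E''] [Algebra A E] [Algebra A E''] (p : E →ₐ[A] E''),
    Function.Surjective p → ∀ J : Ideal E, J ^ 2 = ⊥ → RingHom.ker p.toRingHom ≤ J → IsUnit (algebraMap A E g) →
      ∀ v : B' →ₐ[A] E'', (∀ x, π x = 0 → ∃ y ∈ J, p y = v x) → ∃ w : B' →ₐ[A] E, p.comp w = v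

variable {I π} (hI : I ^ 2 = ⊥) (hker : RingHom.ker π.toRingHom ^ 2 = ⊥)
include hI

theorem exists_local_retraction {g : A} (h : LocLift I π g) :
    ∃ r : B' →ₐ[A] Localization.Away g, ∀ x, π x = 0 → r x ∈ I.map (algebraMap A (Localization.Away g)) := by
  let E := Localization.Away g
  let J := I.map (algebraMap A E)
  let v : B' →ₐ[A] E ⧸ J := (Ideal.Quotient.liftₐ I (Algebra.ofId A (E ⧸ J)) fun a ha => by
    show Ideal.Quotient.mk J (algebraMap A E a) = 0
    rw [Ideal.Quotient.eq_zero_iff_mem]
    exact Ideal.mem_map_of_mem _ ha).comp π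
  obtain ⟨r, hr⟩ := h E (E ⧸ J) (Ideal.Quotient.mkₐ A J) Ideal.Quotient.mk_surjective J
    (by rw [← Ideal.map_pow, hI, Ideal.map_bot]) (fun x hx => Ideal.Quotient.eq_zero_iff_mem.mp hx)
    (IsLocalization.Away.algebraMap_isUnit g) v
    (fun x hx => ⟨0, J.zero_mem, by rw [map_zero]; simp [v, hx]⟩)
  refine ⟨r, fun x hx => Ideal.Quotient.eq_zero_iff_mem.mp ?_⟩
  have h1 : Ideal.Quotient.mk J (r x) = v x := congr($hr x)
  rw [h1]; simp [v, hx]

include hker

omit hI in
theorem mul_eq_zero_of_mem {x y : B'} (hx : π x = 0) (hy : π y = 0) : x * y = 0 := by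
  have h1 : x * y ∈ RingHom.ker π.toRingHom ^ 2 := by rw [pow_two]; exact Ideal.mul_mem_mul hx hy
  rwa [hker, Ideal.mem_bot] at h1

/-- A retraction exists. -/
theorem exists_retraction (hs : Ideal.span {g : A | LocLift I π g} = ⊤) :
    ∃ r : B' →ₐ[A] A, ∀ x, Ideal.Quotient.mk I (r x) = π x := by
  classical
  obtain ⟨s, hsub, hs1⟩ := Submodule.mem_span_finite_of_mem_span ((Ideal.eq_top_iff_one _).mp hs)
  have hstop : Ideal.span (s : Set A) = ⊤ := (Ideal.eq_top_iff_one _).mpr hs1
  have hπA : ∀ a, π (algebraMap A B' a) = Ideal.Quotient.mk I a := fun a => π.commutes a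
  have hz : ∀ a ∈ I, π (algebraMap A B' a) = 0 := fun a ha => by
    rw [hπA]; exact Ideal.Quotient.eq_zero_iff_mem.mpr ha
  let K : Submodule A B' := LinearMap.ker π.toLinearMap
  have hK : ∀ x, x ∈ K ↔ π x = 0 := fun x => Iff.rfl
  let ι : I →ₗ[A] K := ((Algebra.linearMap A B').comp I.subtype).codRestrict K fun a => hz a a.2
  have hι : ∀ a : I, (ι a : B') = algebraMap A B' a := fun a => rfl
  -- injectivity
  have hinj : Function.Injective ι := by
    refine (injective_iff_map_eq_zero ι).mpr fun a ha => Subtype.ext ?_
    have ha' : algebraMap A B' a = 0 := (hι a).symm.trans (congrArg Subtype.val ha)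
    have hann : ∀ g ∈ s, ∃ m : ℕ, g ^ m * (a : A) = 0 := by
      intro g hg
      obtain ⟨r, -⟩ := exists_local_retraction hI (hsub hg)
      have h1 : algebraMap A (Localization.Away g) a = 0 := by rw [← r.commutes, ha', map_zero]
      obtain ⟨⟨_, m, rfl⟩, hm⟩ := (IsLocalization.map_eq_zero_iff (Submonoid.powers g) _ _).mp h1
      exact ⟨m, hm⟩
    choose m hm using hann
    have hle : Ideal.span (Set.range fun g : s => (g : A) ^ (m g g.2)) ≤ (Submodule.span A {(a : A)}).annihilator := by
      rw [Ideal.span_le]
      rintro _ ⟨g, rfl⟩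
      exact (Submodule.mem_annihilator_span_singleton _ _).mpr (hm g g.2)
    have htop : Ideal.span (Set.range fun g : s => (g : A) ^ (m g g.2)) = ⊤ := by
      have h2 := Ideal.span_range_pow_eq_top (s : Set A) hstop (fun g => m g g.2)
      exact h2
    rw [htop] at hle
    have h1 := (Submodule.mem_annihilator_span_singleton _ _).mp (hle (Submodule.mem_top (x := (1 : A))))
    rwa [one_smul] at h1
  -- modules over `A ⧸ I`
  have htK : Module.IsTorsionBySet A K (I : Set A) := fun x a => Subtype.ext <| by
    show (a : A) • (x : B') = 0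
    rw [Algebra.smul_def]
    exact mul_eq_zero_of_mem hker (hz a a.2) x.2
  let M := K ⧸ LinearMap.range ι
  have htM : Module.IsTorsionBySet A M (I : Set A) := fun x a => by
    obtain ⟨y, rfl⟩ := Submodule.Quotient.mk_surjective _ x
    have h2 := @htK y a
    rw [← Submodule.Quotient.mk_smul, h2, Submodule.Quotient.mk_zero]
  letI : Module (A ⧸ I) K := htK.module
  letI : Module (A ⧸ I) M := htM.module
  -- projectivity
  haveI hproj : Module.Projective (A ⧸ I) M := by
    refine projective_of_cover (fun g : s => Localization.Away (Ideal.Quotient.mk I (g : A))) (fun p => ?_) M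
      fun g => ?_
    · have : ∃ g : s, Ideal.Quotient.mk I (g : A) ∉ p.asIdeal := by
        by_contra hne
        push Not at hne
        have h1 : Ideal.span (s : Set A) ≤ p.asIdeal.comap (Ideal.Quotient.mk I) :=
          Ideal.span_le.mpr fun g hg => hne ⟨g, hg⟩
        rw [hstop] at h1
        exact p.2.ne_top ((Ideal.eq_top_iff_one _).mpr (by simpa using h1 (Submodule.mem_top (x := (1 : A)))))
      obtain ⟨g, hg⟩ := this
      refine ⟨g, ?_⟩
      rw [PrimeSpectrum.localization_away_comap_range (Localization.Away (Ideal.Quotient.mk I (g : A)))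
        (Ideal.Quotient.mk I (g : A))]
      exact hg
    · let S := Localization.Away (Ideal.Quotient.mk I (g : A))
      refine Module.Projective.of_lifting_property' fun {N} {N''} _ _ _ _ p φ hp => ?_
      letI : AddCommGroup N := Module.addCommMonoidToAddCommGroup S
      letI : AddCommGroup N'' := Module.addCommMonoidToAddCommGroup S
      letI : Module Sᵐᵒᵖ N := Module.compHom N ((RingHom.id S).fromOpposite mul_comm)
      haveI : IsCentralScalar S N := ⟨fun _ _ => rfl⟩
      letI : Module Sᵐᵒᵖ N'' := Module.compHom N'' ((RingHom.id S).fromOpposite mul_comm)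
      haveI : IsCentralScalar S N'' := ⟨fun _ _ => rfl⟩
      letI : Module A N := Module.compHom N (algebraMap A S)
      haveI : IsScalarTower A S N := IsScalarTower.of_algebraMap_smul fun _ _ => rfl
      haveI : IsScalarTower A Sᵐᵒᵖ N := IsScalarTower.of_algebraMap_smul fun _ _ => rfl
      letI : Module A N'' := Module.compHom N'' (algebraMap A S)
      haveI : IsScalarTower A S N'' := IsScalarTower.of_algebraMap_smul fun _ _ => rfl
      haveI : IsScalarTower A Sᵐᵒᵖ N'' := IsScalarTower.of_algebraMap_smul fun _ _ => rfl
      letI : Module (A ⧸ I) N := Module.compHom N (algebraMap (A ⧸ I) S)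
      haveI : IsScalarTower (A ⧸ I) S N := IsScalarTower.of_algebraMap_smul fun _ _ => rfl
      haveI : IsScalarTower A (A ⧸ I) N := IsScalarTower.of_algebraMap_smul fun a x => by
        show algebraMap (A ⧸ I) S (algebraMap A (A ⧸ I) a) • x = algebraMap A S a • x
        rw [← IsScalarTower.algebraMap_apply]
      let E := TrivSqZeroExt S N
      let E'' := TrivSqZeroExt S N''
      let P : E →ₐ[A] E'' := (TrivSqZeroExt.map p).restrictScalars A
      have hP : ∀ x : E, P x = TrivSqZeroExt.inl x.fst + TrivSqZeroExt.inr (p x.snd) := fun x => by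
        conv_lhs => rw [← TrivSqZeroExt.inl_fst_add_inr_snd_eq x]
        rw [map_add]
        exact congrArg₂ (· + ·) (TrivSqZeroExt.map_inl p x.fst) (TrivSqZeroExt.map_inr p x.snd)
      let J : Ideal E := RingHom.ker (TrivSqZeroExt.fstHom S S N).toRingHom
      have hJ : J ^ 2 = ⊥ := by
        rw [pow_two, eq_bot_iff, Ideal.mul_le]
        intro x hx y hy
        have hx' : x.fst = 0 := hx
        have hy' : y.fst = 0 := hy
        rw [Ideal.mem_bot]
        refine TrivSqZeroExt.ext ?_ ?_
        · rw [TrivSqZeroExt.fst_mul, hx', zero_mul]; rfl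
        · rw [TrivSqZeroExt.snd_mul, hx', hy', MulOpposite.op_zero, zero_smul, zero_smul, add_zero]; rfl
      -- the derivation attached to `φ`
      choose lift hlift using fun x : B' => Ideal.Quotient.mk_surjective (π x)
      let cls : B' → M := fun x => Submodule.Quotient.mk ⟨x - algebraMap A B' (lift x), by
        rw [hK, map_sub, hπA, hlift, sub_self]⟩
      have hcls : ∀ (x : B') (a : A) (ha : π (x - algebraMap A B' a) = 0),
          cls x = Submodule.Quotient.mk ⟨x - algebraMap A B' a, ha⟩ := by
        intro x a ha
        refine (Submodule.Quotient.eq _).mpr ⟨⟨a - lift x, ?_⟩, Subtype.ext ?_⟩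
        · rw [← Ideal.Quotient.eq_zero_iff_mem, map_sub, hlift]
          rw [map_sub, hπA] at ha
          rw [← sub_eq_zero.mp ha, sub_self]
        · rw [hι]; simp only [map_sub, Submodule.coe_sub]; ring
      let d : B' → N'' := fun x => φ (1 ⊗ₜ cls x)
      have hcl_add : ∀ x y, cls (x + y) = cls x + cls y := fun x y => by
        rw [hcls (x + y) (lift x + lift y) (by rw [map_sub, map_add, hπA, map_add, hlift, hlift, sub_self])]
        rw [← Submodule.Quotient.mk_add]
        congr 1
        exact Subtype.ext (by simp only [Submodule.coe_add, map_add]; ring)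
      have hcl_alg : ∀ a, cls (algebraMap A B' a) = 0 := fun a => by
        rw [hcls _ a (by rw [sub_self, map_zero]), Submodule.Quotient.mk_eq_zero]
        exact ⟨0, Subtype.ext (by simp)⟩
      have hcl_mul : ∀ x y, cls (x * y) = lift x • cls y + lift y • cls x := fun x y => by
        rw [hcls (x * y) (lift x * lift y) (by rw [map_sub, map_mul, hπA, map_mul, hlift, hlift, sub_self])]
        rw [← Submodule.Quotient.mk_smul, ← Submodule.Quotient.mk_smul, ← Submodule.Quotient.mk_add]
        congr 1
        refine Subtype.ext ?_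
        have h0 : (x - algebraMap A B' (lift x)) * (y - algebraMap A B' (lift y)) = 0 :=
          mul_eq_zero_of_mem hker (by rw [map_sub, hπA, hlift, sub_self]) (by rw [map_sub, hπA, hlift, sub_self])
        simp only [Submodule.coe_add, Submodule.coe_smul, Algebra.smul_def, map_mul]
        linear_combination h0
      let q : A ⧸ I →ₐ[A] S := (Algebra.ofId (A ⧸ I) S).restrictScalars A
      have hd : ∀ (a : A) (m : M), φ (1 ⊗ₜ (a • m)) = (algebraMap (A ⧸ I) S (Ideal.Quotient.mk I a)) • φ (1 ⊗ₜ m) := by
        intro a m
        rw [show a • m = (Ideal.Quotient.mk I a) • m from (htM.mk_smul a m).symm, TensorProduct.tmul_smul,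
          ← algebraMap_smul S (Ideal.Quotient.mk I a) ((1 : S) ⊗ₜ[A ⧸ I] m), map_smul]
      let v : B' →ₐ[A] E'' :=
        { toFun := fun x => (q (π x), d x)
          map_one' := TrivSqZeroExt.ext (by show q (π 1) = _; rw [map_one, map_one]; rfl) (by
            show d 1 = _
            simp only [d]
            rw [show (1 : B') = algebraMap A B' 1 from (map_one _).symm, hcl_alg, tmul_zero, map_zero]; rfl)
          map_mul' := fun x y => TrivSqZeroExt.ext (by show q (π (x * y)) = _; rw [map_mul, map_mul]; rfl) (by
            show d (x * y) = q (π x) • d y + MulOpposite.op (q (π y)) • d x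
            rw [op_smul_eq_smul]
            simp only [d]
            rw [hcl_mul, tmul_add, map_add, hd, hd, hlift, hlift]
            rfl)
          map_zero' := TrivSqZeroExt.ext (by show q (π 0) = _; rw [map_zero, map_zero]; rfl) (by
            show d 0 = _
            simp only [d]
            rw [show (0 : B') = algebraMap A B' 0 from (map_zero _).symm, hcl_alg, tmul_zero, map_zero]; rfl)
          map_add' := fun x y => TrivSqZeroExt.ext (by show q (π (x + y)) = _; rw [map_add, map_add]; rfl) (by
            show d (x + y) = d x + d y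
            simp only [d]
            rw [hcl_add, tmul_add, map_add])
          commutes' := fun a => TrivSqZeroExt.ext (by show q (π (algebraMap A B' a)) = _; rw [hπA]; rfl) (by
            show d (algebraMap A B' a) = _
            simp only [d]
            rw [hcl_alg, tmul_zero, map_zero]; rfl) }
      have hunit : IsUnit (algebraMap A E (g : A)) := by
        have h1 : IsUnit (algebraMap A S (g : A)) := by
          rw [IsScalarTower.algebraMap_apply A (A ⧸ I) S]
          exact IsLocalization.Away.algebraMap_isUnit (Ideal.Quotient.mk I (g : A))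
        exact h1.map (TrivSqZeroExt.inlHom S N)
      have hsurj : Function.Surjective P := fun e => by
        obtain ⟨n, hn⟩ := hp e.snd
        refine ⟨(e.fst, n), ?_⟩
        rw [hP]
        refine TrivSqZeroExt.ext ?_ ?_
        · rw [TrivSqZeroExt.fst_add, TrivSqZeroExt.fst_inl, TrivSqZeroExt.fst_inr, add_zero]; rfl
        · rw [TrivSqZeroExt.snd_add, TrivSqZeroExt.snd_inl, TrivSqZeroExt.snd_inr, zero_add]; exact hn
      have hfstP : ∀ x : E, (P x).fst = x.fst := fun x => by
        rw [hP, TrivSqZeroExt.fst_add, TrivSqZeroExt.fst_inl, TrivSqZeroExt.fst_inr, add_zero]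
      obtain ⟨w, hw⟩ := hsub g.2 E E'' P hsurj J hJ (fun x (hx : P x = 0) => by
          show x.fst = 0
          rw [← hfstP, hx]; rfl) hunit v (fun x hx => by
        obtain ⟨y, hy⟩ := hsurj (v x)
        refine ⟨y, ?_, hy⟩
        show y.fst = 0
        rw [← hfstP, hy]
        show q (π x) = 0
        rw [hx, map_zero])
      have hwf : ∀ x, (w x).fst = q (π x) := fun x => by
        rw [← hfstP, show P (w x) = v x from congr($hw x)]; rfl
      -- back to a linear map
      let δ : K →ₗ[A] N := LinearMap.restrictScalars A
          { toFun := fun y : K => (w (y : B')).snd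
            map_add' := fun y z => by rw [Submodule.coe_add, map_add]; rfl
            map_smul' := fun c y => by
              obtain ⟨a, rfl⟩ := Ideal.Quotient.mk_surjective c
              show (w ((Ideal.Quotient.mk I a • y : K) : B')).snd = Ideal.Quotient.mk I a • (w (y : B')).snd
              rw [htK.mk_smul, Submodule.coe_smul, Algebra.smul_def, map_mul, TrivSqZeroExt.snd_mul, op_smul_eq_smul,
                hwf, hwf, (hK _).mp y.2, map_zero, zero_smul, add_zero, hπA, ← algebraMap_smul S]
              rfl : K →ₗ[A ⧸ I] N }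
      have hδ0 : LinearMap.range ι ≤ LinearMap.ker δ := by
        rintro _ ⟨a, rfl⟩
        show (w (ι a : B')).snd = 0
        rw [hι, AlgHom.commutes]
        rfl
      let δ₁ : M →ₗ[A ⧸ I] N :=
        { (LinearMap.range ι).liftQ δ hδ0 with
          map_smul' := fun c y => by
            obtain ⟨a, rfl⟩ := Ideal.Quotient.mk_surjective c
            obtain ⟨y, rfl⟩ := Submodule.Quotient.mk_surjective _ y
            show (LinearMap.range ι).liftQ δ hδ0 (Ideal.Quotient.mk I a • Submodule.Quotient.mk y) = _
            rw [htM.mk_smul, map_smul, RingHom.id_apply]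
            exact (algebraMap_smul (A ⧸ I) a _).symm }
      refine ⟨δ₁.liftBaseChange S, ?_⟩
      apply LinearMap.ext
      intro z
      induction z with
      | zero => simp
      | add a b ha hb => simp only [map_add, ha, hb]
      | tmul c m =>
        obtain ⟨y, rfl⟩ := Submodule.Quotient.mk_surjective _ m
        rw [LinearMap.comp_apply, LinearMap.liftBaseChange_tmul, map_smul,
          show (c : S) ⊗ₜ[A ⧸ I] (Submodule.Quotient.mk y : M) = c • ((1 : S) ⊗ₜ[A ⧸ I] (Submodule.Quotient.mk y : M)) by
            rw [TensorProduct.smul_tmul', smul_eq_mul, mul_one], map_smul]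
        congr 1
        show p (w (y : B')).snd = _
        have h1 : (P (w (y : B'))).snd = d y := by rw [show P (w (y : B')) = v y from congr($hw y)]; rfl
        rw [hP, TrivSqZeroExt.snd_add, TrivSqZeroExt.snd_inl, TrivSqZeroExt.snd_inr, zero_add] at h1
        rw [h1]
        show φ (1 ⊗ₜ cls y) = _
        congr 2
        rw [hcls _ 0 (by rw [map_zero, sub_zero]; exact y.2)]
        congr 1
        exact Subtype.ext (by simp)
  -- the splitting
  let mkq : K →ₗ[A ⧸ I] M :=
    { toFun := Submodule.Quotient.mk
      map_add' := fun _ _ => rfl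
      map_smul' := fun c y => by
        obtain ⟨a, rfl⟩ := Ideal.Quotient.mk_surjective c
        rw [RingHom.id_apply, htK.mk_smul, htM.mk_smul, Submodule.Quotient.mk_smul] }
  obtain ⟨σ, hσ⟩ := Module.projective_lifting_property mkq LinearMap.id (Submodule.Quotient.mk_surjective _)
  have hrange : ∀ y : K, ∃ a : I, ι a = y - σ (mkq y) := fun y => by
    have h1 : mkq (y - σ (mkq y)) = 0 := by
      rw [map_sub, show mkq (σ (mkq y)) = mkq y from congr($hσ (mkq y)), sub_self]
    exact (Submodule.Quotient.mk_eq_zero _).mp h1
  choose ρ hρ using hrange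
  have hρadd : ∀ y z, ρ (y + z) = ρ y + ρ z := fun y z => hinj (by
    rw [map_add, hρ, hρ, hρ, map_add, map_add]; abel)
  have hρsmul : ∀ (a : A) y, ρ (a • y) = a • ρ y := fun a y => hinj (by
    rw [map_smul, hρ, hρ, ← htK.mk_smul, map_smul, map_smul, smul_sub, htK.mk_smul, htK.mk_smul])
  have hρι : ∀ a : I, ρ (ι a) = a := fun a => hinj (by
    rw [hρ, show mkq (ι a) = 0 from (Submodule.Quotient.mk_eq_zero _).mpr ⟨a, rfl⟩, map_zero, sub_zero])
  choose lift hlift using fun x : B' => Ideal.Quotient.mk_surjective (π x)
  let r : B' → A := fun x => lift x + ρ ⟨x - algebraMap A B' (lift x), by rw [hK, map_sub, hπA, hlift, sub_self]⟩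
  have hr : ∀ x a (ha : π (x - algebraMap A B' a) = 0), r x = a + ρ ⟨x - algebraMap A B' a, ha⟩ := by
    intro x a ha
    have hmem : a - lift x ∈ I := by
      rw [← Ideal.Quotient.eq_zero_iff_mem, map_sub, hlift]
      rw [map_sub, hπA] at ha
      rw [← sub_eq_zero.mp ha, sub_self]
    have he : (⟨x - algebraMap A B' (lift x), by rw [hK, map_sub, hπA, hlift, sub_self]⟩ : K) =
        ⟨x - algebraMap A B' a, ha⟩ + ι ⟨a - lift x, hmem⟩ :=
      Subtype.ext (by rw [Submodule.coe_add, hι]; simp only [map_sub]; ring)
    simp only [r]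
    rw [he, hρadd, hρι, Submodule.coe_add]
    show lift x + (_ + (a - lift x)) = _
    ring
  refine ⟨{ toFun := r, map_one' := ?_, map_mul' := ?_, map_zero' := ?_, map_add' := ?_, commutes' := ?_ }, fun x => ?_⟩
  · rw [hr 1 1 (by rw [map_one, sub_self, map_zero]),
      show (⟨(1 : B') - algebraMap A B' 1, _⟩ : K) = ι 0 from Subtype.ext (by rw [hι]; simp), hρι]
    simp
  · intro x y
    let K₁ : K := ⟨x - algebraMap A B' (lift x), by rw [hK, map_sub, hπA, hlift, sub_self]⟩
    let K₂ : K := ⟨y - algebraMap A B' (lift y), by rw [hK, map_sub, hπA, hlift, sub_self]⟩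
    rw [hr (x * y) (lift x * lift y) (by rw [map_sub, map_mul, hπA, map_mul, hlift, hlift, sub_self])]
    have he : (⟨x * y - algebraMap A B' (lift x * lift y), by
        rw [hK, map_sub, map_mul, hπA, map_mul, hlift, hlift, sub_self]⟩ : K) = lift x • K₂ + lift y • K₁ := by
      refine Subtype.ext ?_
      have h0 : (x - algebraMap A B' (lift x)) * (y - algebraMap A B' (lift y)) = 0 := mul_eq_zero_of_mem hker K₁.2 K₂.2
      simp only [Submodule.coe_add, Submodule.coe_smul, Algebra.smul_def, map_mul, K₁, K₂]
      linear_combination h0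
    rw [he, hρadd, hρsmul, hρsmul]
    show _ = (lift x + (ρ K₁ : A)) * (lift y + (ρ K₂ : A))
    have h0 : (ρ K₁ : A) * ρ K₂ = 0 := by
      have := Ideal.mul_mem_mul (ρ K₁).2 (ρ K₂).2
      rwa [← pow_two, hI, Ideal.mem_bot] at this
    simp only [Submodule.coe_add, Submodule.coe_smul, smul_eq_mul]
    linear_combination -h0
  · rw [hr 0 0 (by rw [map_zero, sub_self, map_zero]),
      show (⟨(0 : B') - algebraMap A B' 0, _⟩ : K) = ι 0 from Subtype.ext (by rw [hι]; simp), hρι]
    simp
  · intro x y
    rw [hr (x + y) (lift x + lift y) (by rw [map_sub, map_add, hπA, map_add, hlift, hlift, sub_self])]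
    rw [show (⟨x + y - algebraMap A B' (lift x + lift y), _⟩ : K) =
      ⟨x - algebraMap A B' (lift x), by rw [hK, map_sub, hπA, hlift, sub_self]⟩ +
      ⟨y - algebraMap A B' (lift y), by rw [hK, map_sub, hπA, hlift, sub_self]⟩ from
        Subtype.ext (by simp only [Submodule.coe_add, map_add]; ring), hρadd, Submodule.coe_add]
    simp only [r]; ring
  · intro a
    show r (algebraMap A B' a) = a
    rw [hr _ a (by rw [sub_self, map_zero]),
      show (⟨algebraMap A B' a - algebraMap A B' a, _⟩ : K) = ι 0 from Subtype.ext (by rw [hι]; simp), hρι]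
    simp
  · show Ideal.Quotient.mk I (r x) = π x
    simp only [r]
    rw [map_add, (Ideal.Quotient.eq_zero_iff_mem (I := I)).mpr (ρ _).2, add_zero, hlift]

end Groth.Agent.FSmoothLocal
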