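/-
Formal smoothness of morphisms of schemes is affine-local.
-/
import Groth.Agent.FSmoothLocal.Algebra
import Groth.Agent.OmegaThick.Glue

set_option autoImplicit false
set_option backward.isDefEq.respectTransparency false
set_option linter.style.haveILetI false

universe u

open AlgebraicGeometry CategoryTheory CategoryTheory.Limits TopologicalSpace

namespace Groth.Agent.FSmoothLocal

open OmegaThick

variable {X Y : Scheme.{u}} (f : X ⟶ Y)

/-- all affine pieces of `f` are formally smooth -/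
def AffSmooth : Prop :=
  ∀ (U : X.Opens) (V : Y.Opens) (_ : IsAffineOpen U) (_ : IsAffineOpen V) (hUV : U ≤ f ⁻¹ᵁ V),
    letI := (f.appLE V U hUV).hom.toAlgebra; Algebra.FormallySmooth Γ(Y, V) Γ(X, U)

theorem exists_lift_affine {U : X.Opens} {V : Y.Opens} (hU : IsAffineOpen U) (hV : IsAffineOpen V)
    (hUV : U ≤ f ⁻¹ᵁ V) (h : letI := (f.appLE V U hUV).hom.toAlgebra; Algebra.FormallySmooth Γ(Y, V) Γ(X, U))
    {E E'' : CommRingCat.{u}} (p : E ⟶ E'') (hp : Function.Surjective p) (hsq : RingHom.ker p.hom ^ 2 = ⊥)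
    (γ : Spec E'' ⟶ X) (δ : Spec E ⟶ Y) (w : Spec.map p ≫ δ = γ ≫ f) (hγ : Set.range γ ⊆ U) :
    ∃ l : Spec E ⟶ X, Spec.map p ≫ l = γ ∧ l ≫ f = δ := by
  have hfot := fot_spec p hp hsq
  have hδ : Set.range δ ⊆ Set.range hV.fromSpec := range_le_of_comp hfot δ _ fun t => by
    rw [← Scheme.Hom.comp_apply, w, hV.range_fromSpec]
    exact hUV (hγ ⟨t, rfl⟩)
  have hγ' : Set.range γ ⊆ Set.range hU.fromSpec := by rw [hU.range_fromSpec]; exact hγ
  obtain ⟨c, hc⟩ : ∃ c₀, Spec.map c₀ = IsOpenImmersion.lift hU.fromSpec γ hγ' := ⟨_, Spec.map_preimage _⟩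
  obtain ⟨d, hd⟩ : ∃ d₀, Spec.map d₀ = IsOpenImmersion.lift hV.fromSpec δ hδ := ⟨_, Spec.map_preimage _⟩
  let φ := f.appLE V U hUV
  have hw : d ≫ p = φ ≫ c := by
    rw [← Spec.map_inj, ← cancel_mono hV.fromSpec, Spec.map_comp, Spec.map_comp, Category.assoc, Category.assoc,
      hd, IsOpenImmersion.lift_fac, IsAffineOpen.SpecMap_appLE_fromSpec f hV hU hUV, hc,
      IsOpenImmersion.lift_fac_assoc, w]
  letI := φ.hom.toAlgebra
  letI : Algebra Γ(Y, V) E := d.hom.toAlgebra
  letI : Algebra Γ(Y, V) E'' := (d ≫ p).hom.toAlgebra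
  let g : (E : Type u) →ₐ[Γ(Y, V)] E'' := { p.hom with commutes' := fun _ => rfl }
  let cA : Γ(X, U) →ₐ[Γ(Y, V)] E'' := { c.hom with commutes' := fun r => congr($(hw.symm).hom r) }
  haveI := h
  let l₀ := Algebra.FormallySmooth.liftOfSurjective cA g hp ⟨2, hsq⟩
  have hl : (CommRingCat.ofHom l₀.toRingHom ≫ p : Γ(X, U) ⟶ E'') = c :=
    CommRingCat.hom_ext (RingHom.ext fun x => Algebra.FormallySmooth.liftOfSurjective_apply cA g hp ⟨2, hsq⟩ x)
  refine ⟨Spec.map (CommRingCat.ofHom l₀.toRingHom) ≫ hU.fromSpec, ?_, ?_⟩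
  · rw [← Category.assoc, ← Spec.map_comp, hl, hc, IsOpenImmersion.lift_fac]
  · rw [Category.assoc, ← IsAffineOpen.SpecMap_appLE_fromSpec f hV hU hUV, ← Category.assoc, ← Spec.map_comp,
      show φ ≫ CommRingCat.ofHom l₀.toRingHom = d from CommRingCat.hom_ext (RingHom.ext fun r => l₀.commutes r),
      hd, IsOpenImmersion.lift_fac]

theorem isFormallySmoothHom_of_affSmooth (h : AffSmooth f) : MoreMor.IsFormallySmoothHom f := by
  intro A _ I hI a b w
  let P := pullback f b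
  let σ : Spec (CommRingCat.of (A ⧸ I)) ⟶ P := pullback.lift a (sq I) w.symm
  haveI : IsClosedImmersion (sq I) := IsClosedImmersion.spec_of_surjective _ Ideal.Quotient.mk_surjective
  haveI : IsClosedImmersion (σ ≫ pullback.snd f b) := by rw [pullback.lift_snd]; infer_instance
  haveI : FormallyUnramified σ := FormallyUnramified.of_comp σ (pullback.snd f b)
  obtain ⟨Z', i', a', hu⟩ := exists_univThickening σ
  haveI := Fot.isClosedImmersion hu.1
  haveI := Fot.surjective hu.1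
  haveI : IsAffine Z' := NilAffine.isAffine_of_surjective i'
  let B' : CommRingCat.{u} := Γ(Z', ⊤)
  let e := Z'.isoSpec
  obtain ⟨πC, hπC⟩ : ∃ π₀ : B' ⟶ CommRingCat.of (A ⧸ I), Spec.map π₀ = i' ≫ e.hom := ⟨_, Spec.map_preimage _⟩
  obtain ⟨kC, hkC⟩ : ∃ k₀ : CommRingCat.of A ⟶ B', Spec.map k₀ = e.inv ≫ a' ≫ pullback.snd f b :=
    ⟨_, Spec.map_preimage _⟩
  have hkπ : kC ≫ πC = CommRingCat.ofHom (Ideal.Quotient.mk I) := by
    rw [← Spec.map_inj, Spec.map_comp, hπC, hkC, Category.assoc, Iso.hom_inv_id_assoc, ← Category.assoc, hu.2.1,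
      pullback.lift_snd]
  letI : Algebra A B' := kC.hom.toAlgebra
  let π : (B' : Type u) →ₐ[A] A ⧸ I := { πC.hom with commutes' := fun r => congr($(hkπ).hom r) }
  have hfot : Fot (Spec.map πC) := fot_of_isPullback hu.1 (f := 𝟙 _) (f' := e.inv)
    (IsPullback.of_vert_isIso ⟨by rw [hπC]; simp⟩)
  have hker : RingHom.ker π.toRingHom ^ 2 = ⊥ := by
    have h1 := Fot.ker_sq hfot ⟨⊤, isAffineOpen_top _⟩
    rw [ker_app_top, ← Ideal.map_pow, Ideal.map_eq_bot_iff_of_injective (RingEquiv.injective _)] at h1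
    exact h1
  have hspan : Ideal.span {g : A | LocLift I π g} = ⊤ := by
    by_contra hne
    obtain ⟨m, hm, hle⟩ := Ideal.exists_le_maximal _ hne
    haveI := hm.isPrime
    let x : Spec (CommRingCat.of A) := (⟨m, inferInstance⟩ : PrimeSpectrum A)
    obtain ⟨z, hz⟩ := Fot.point (fot_sq I hI) x
    obtain ⟨V, hV, hzV, -⟩ := exists_isAffineOpen_mem_and_subset (X := Y) (x := b x) (U := ⊤) trivial
    obtain ⟨U, hU, hzU, hUV⟩ := exists_isAffineOpen_mem_and_subset (X := X) (x := a z) (U := f ⁻¹ᵁ V) (by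
      show (a ≫ f) z ∈ V
      rw [← w]
      show b (sq I z) ∈ V
      rw [hz]; exact hzV)
    have hO : ∃ O : (Spec (CommRingCat.of A)).Opens, (sq I) ⁻¹ᵁ O = a ⁻¹ᵁ U :=
      exists_preimage (fot_sq I hI) _
    obtain ⟨O, hO⟩ := hO
    have hxO : x ∈ O := by
      rw [← hz]
      show z ∈ sq I ⁻¹ᵁ O
      rw [hO]; exact hzU
    obtain ⟨_, ⟨g, rfl⟩, hxg, hgO⟩ := PrimeSpectrum.isTopologicalBasis_basic_opens.exists_subset_of_mem_open
      (u := (O.1 : Set (PrimeSpectrum A))) hxO O.2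
    have hgm : g ∉ m := hxg
    refine hgm (hle (Ideal.subset_span ?_))
    intro E E'' _ _ _ _ p hp J hJ hpJ hg v hv
    let pC : CommRingCat.of E ⟶ CommRingCat.of E'' := CommRingCat.ofHom p.toRingHom
    let vC : B' ⟶ CommRingCat.of E'' := CommRingCat.ofHom v.toRingHom
    let βC : CommRingCat.of A ⟶ CommRingCat.of E := CommRingCat.ofHom (algebraMap A E)
    have hkv : kC ≫ vC = βC ≫ pC := CommRingCat.hom_ext (RingHom.ext fun r => (v.commutes r).trans (p.commutes r).symm)
    have hpsq : RingHom.ker pC.hom ^ 2 = ⊥ := le_bot_iff.mp ((Ideal.pow_right_mono hpJ 2).trans hJ.le)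
    let γ : Spec (CommRingCat.of E'') ⟶ X := Spec.map vC ≫ e.inv ≫ a' ≫ pullback.fst f b
    have hγ : Set.range γ ⊆ U := by
      rintro _ ⟨t, rfl⟩
      obtain ⟨z₁, hz₁⟩ := Fot.point hu.1 (e.inv (Spec.map vC t))
      show (pullback.fst f b) (a' (e.inv (Spec.map vC t))) ∈ U
      rw [← hz₁, ← Scheme.Hom.comp_apply, ← Scheme.Hom.comp_apply, reassoc_of% hu.2.1, pullback.lift_fst]
      show z₁ ∈ a ⁻¹ᵁ U
      rw [← hO]
      show sq I z₁ ∈ O
      refine hgO ?_
      have h1 : sq I z₁ = Spec.map (βC ≫ pC) t := by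
        rw [← hkv, Spec.map_comp, hkC, Scheme.Hom.comp_apply, Scheme.Hom.comp_apply, Scheme.Hom.comp_apply, ← hz₁,
          ← Scheme.Hom.comp_apply, ← Scheme.Hom.comp_apply, reassoc_of% hu.2.1, pullback.lift_snd]
      rw [h1]
      show g ∉ Ideal.comap (βC ≫ pC).hom t.asIdeal
      intro hmem
      exact t.2.ne_top (Ideal.eq_top_of_isUnit_mem _ hmem ((hg.map p.toRingHom)))
    obtain ⟨l, hl1, hl2⟩ := exists_lift_affine f hU hV hUV (h U V hU hV hUV) pC hp hpsq γ (Spec.map βC ≫ b) (by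
      rw [← Category.assoc, ← Spec.map_comp, ← hkv, Spec.map_comp, hkC]
      simp only [γ, Category.assoc, pullback.condition]) hγ
    let wP : Spec (CommRingCat.of E) ⟶ P := pullback.lift l (Spec.map βC) hl2
    let Q : Ideal E'' := J.map p.toRingHom
    have hQsq : Q ^ 2 = ⊥ := by rw [← Ideal.map_pow, hJ, Ideal.map_bot]
    have hvQ : ∀ x, π x = 0 → v x ∈ Q := fun x hx => by
      obtain ⟨y, hy, hyv⟩ := hv x hx
      rw [← hyv]; exact Ideal.mem_map_of_mem _ hy
    have hπs : Function.Surjective π := fun c => by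
      obtain ⟨c, rfl⟩ := Ideal.Quotient.mk_surjective c
      exact ⟨algebraMap A B' c, π.commutes c⟩
    let ā : A ⧸ I →+* E'' ⧸ Q := (Ideal.Quotient.lift I ((Ideal.Quotient.mk Q).comp (algebraMap A E'')) fun r hr => by
      show Ideal.Quotient.mk Q (algebraMap A E'' r) = 0
      rw [Ideal.Quotient.eq_zero_iff_mem, ← v.commutes]
      exact hvQ _ (by rw [π.commutes]; exact Ideal.Quotient.eq_zero_iff_mem.mpr hr))
    have hā : ∀ x, ā (π x) = Ideal.Quotient.mk Q (v x) := fun x => by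
      obtain ⟨c, hc⟩ := Ideal.Quotient.mk_surjective (π x)
      rw [← hc]
      show Ideal.Quotient.mk Q (algebraMap A E'' c) = _
      rw [Ideal.Quotient.mk_eq_mk_iff_sub_mem, ← v.commutes, ← map_sub]
      exact hvQ _ (by rw [map_sub, π.commutes, sub_eq_zero]; exact hc)
    let āC : CommRingCat.of (A ⧸ I) ⟶ CommRingCat.of (E'' ⧸ Q) := CommRingCat.ofHom ā
    let qC : CommRingCat.of E'' ⟶ CommRingCat.of (E'' ⧸ Q) := CommRingCat.ofHom (Ideal.Quotient.mk Q)
    have hāv : πC ≫ āC = vC ≫ qC := CommRingCat.hom_ext (RingHom.ext hā)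
    -- the thickenings
    have hq' : Fot (Spec.map qC) := fot_spec _ Ideal.Quotient.mk_surjective (by
      rw [CommRingCat.hom_ofHom, Ideal.mk_ker, hQsq])
    have hpq : Fot (Spec.map qC ≫ Spec.map pC) := by
      rw [← Spec.map_comp]
      refine fot_spec _ (Ideal.Quotient.mk_surjective.comp hp) ?_
      refine le_bot_iff.mp ((Ideal.pow_right_mono (fun y hy => ?_) 2).trans hJ.le)
      have h1 : p y ∈ Q := Ideal.Quotient.eq_zero_iff_mem.mp hy
      rw [Ideal.mem_map_iff_of_surjective p.toRingHom hp] at h1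
      obtain ⟨y', hy', hyy⟩ := h1
      have h2 : y - y' ∈ J := hpJ (by rw [RingHom.mem_ker, map_sub, hyy]; exact sub_self _)
      simpa using add_mem h2 hy'
    have hcompat : (Spec.map qC ≫ Spec.map pC) ≫ wP = Spec.map āC ≫ σ := by
      refine pullback.hom_ext ?_ ?_
      · rw [Category.assoc, Category.assoc, pullback.lift_fst, Category.assoc, hl1, pullback.lift_fst]
        show Spec.map qC ≫ Spec.map vC ≫ e.inv ≫ a' ≫ pullback.fst f b = _
        rw [← Spec.map_comp_assoc, ← hāv, Spec.map_comp, hπC]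
        simp only [Category.assoc, Iso.hom_inv_id_assoc]
        rw [reassoc_of% hu.2.1, pullback.lift_fst]
      · rw [Category.assoc, Category.assoc, pullback.lift_snd, Category.assoc, pullback.lift_snd,
          ← Spec.map_comp, ← Spec.map_comp, ← Spec.map_comp, ← hkπ]
        congr 1
        exact (congrArg (· ≫ qC) hkv).symm.trans
          (((Category.assoc _ _ _).trans (congrArg (kC ≫ ·) hāv.symm)).trans (Category.assoc _ _ _).symm)
    obtain ⟨s, ⟨hs1, hs2⟩, -⟩ := hu.2.2 _ _ (Spec.map qC ≫ Spec.map pC) wP (Spec.map āC) hpq hcompat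
    obtain ⟨wC, hwC⟩ : ∃ w₀ : B' ⟶ CommRingCat.of E, Spec.map w₀ = s ≫ e.hom := ⟨_, Spec.map_preimage _⟩
    have hwk : kC ≫ wC = βC := by
      rw [← Spec.map_inj, Spec.map_comp, hwC, hkC, Category.assoc, Iso.hom_inv_id_assoc, ← Category.assoc, hs2,
        pullback.lift_snd]
    have hwv : wC ≫ pC = vC := by
      have h1 : Spec.map pC ≫ s = Spec.map vC ≫ e.inv := by
        refine (hu.2.2 _ _ (Spec.map qC) (Spec.map pC ≫ wP) (Spec.map āC) hq' (by
          rw [← Category.assoc]; exact hcompat)).unique ⟨?_, ?_⟩ ⟨?_, ?_⟩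
        · rw [← Category.assoc]; exact hs1
        · rw [Category.assoc, hs2]
        · rw [← Category.assoc, ← Spec.map_comp, ← hāv, Spec.map_comp, hπC, Category.assoc, Category.assoc,
            Iso.hom_inv_id, Category.comp_id]
        · refine pullback.hom_ext ?_ ?_
          · simp only [Category.assoc, wP, pullback.lift_fst, hl1]
            rfl
          · simp only [Category.assoc, wP, pullback.lift_snd]
            rw [← hkC, ← Spec.map_comp, ← Spec.map_comp, hkv]
      rw [← Spec.map_inj, Spec.map_comp, hwC, ← Category.assoc, h1, Category.assoc, Iso.inv_hom_id, Category.comp_id]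
    exact ⟨{ wC.hom with commutes' := fun r => congr($(hwk).hom r) }, AlgHom.ext fun y => congr($(hwv).hom y)⟩
  obtain ⟨r, hr⟩ := exists_retraction hI hker hspan
  let rC : B' ⟶ CommRingCat.of A := CommRingCat.ofHom r.toRingHom
  have h1 : kC ≫ rC = 𝟙 _ := CommRingCat.hom_ext (RingHom.ext fun x => r.commutes x)
  have h2 : rC ≫ CommRingCat.ofHom (Ideal.Quotient.mk I) = πC := CommRingCat.hom_ext (RingHom.ext hr)
  refine ⟨Spec.map rC ≫ e.inv ≫ a' ≫ pullback.fst f b, ?_, ?_⟩
  · rw [← Spec.map_comp_assoc, h2, hπC]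
    simp only [Category.assoc, Iso.hom_inv_id_assoc]
    rw [reassoc_of% hu.2.1, pullback.lift_fst]
  · simp only [Category.assoc, pullback.condition]
    rw [← reassoc_of% hkC, ← Spec.map_comp_assoc, h1, Spec.map_id, Category.id_comp]

theorem affSmooth_of_isFormallySmoothHom (hf : MoreMor.IsFormallySmoothHom f) : AffSmooth f := by
  intro U V hU hV hUV
  letI := (f.appLE V U hUV).hom.toAlgebra
  refine Algebra.FormallySmooth.iff_comp_surjective.mpr fun E _ _ J hJ c => ?_
  let cC : Γ(X, U) ⟶ CommRingCat.of (E ⧸ J) := CommRingCat.ofHom c.toRingHom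
  let dC : Γ(Y, V) ⟶ CommRingCat.of E := CommRingCat.ofHom (algebraMap _ E)
  have hw : dC ≫ CommRingCat.ofHom (Ideal.Quotient.mk J) = f.appLE V U hUV ≫ cC :=
    CommRingCat.hom_ext (RingHom.ext fun r => (c.commutes r).symm)
  obtain ⟨l, hl1, hl2⟩ := hf E J hJ (Spec.map cC ≫ hU.fromSpec) (Spec.map dC ≫ hV.fromSpec) (by
    rw [← Spec.map_comp_assoc, hw, Spec.map_comp_assoc, IsAffineOpen.SpecMap_appLE_fromSpec f hV hU hUV,
      Category.assoc])
  have hr : Set.range l ⊆ Set.range hU.fromSpec := range_le_of_comp (fot_sq J hJ) l _ fun t => by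
    rw [← Scheme.Hom.comp_apply, hl1]
    exact ⟨Spec.map cC t, rfl⟩
  obtain ⟨e, he⟩ : ∃ e₀, Spec.map e₀ = IsOpenImmersion.lift hU.fromSpec l hr := ⟨_, Spec.map_preimage _⟩
  have h1 : f.appLE V U hUV ≫ e = dC := by
    rw [← Spec.map_inj, ← cancel_mono hV.fromSpec, Spec.map_comp_assoc,
      IsAffineOpen.SpecMap_appLE_fromSpec f hV hU hUV, he, IsOpenImmersion.lift_fac_assoc, hl2]
  have h2 : e ≫ CommRingCat.ofHom (Ideal.Quotient.mk J) = cC := by
    rw [← Spec.map_inj, ← cancel_mono hU.fromSpec, Spec.map_comp_assoc, he, IsOpenImmersion.lift_fac, hl1]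
  exact ⟨{ e.hom with commutes' := fun r => congr($(h1).hom r) }, AlgHom.ext fun x => congr($(h2).hom x)⟩

end Groth.Agent.FSmoothLocal
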